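import Mathlib
import Cfsg.Agent.Lib.MacWilliams.Counting

/-!
General counting lemmas for 2-groups with small centralizers (towards Harada's lemma).
-/

set_option autoImplicit false

namespace CfsgLib.HaradaFour

open Subgroup

variable {X : Type*} [Group X] [Finite X]

/-- If `g` normalizes the elementary abelian 2-group `W` and `g ^ 2` centralizes it, then
`|W| ≤ |C_W(g)| ^ 2`. -/
theorem card_le_sq (g : X) (W : Subgroup X) (hc : ∀ a ∈ W, ∀ b ∈ W, a * b = b * a)
    (he : ∀ a ∈ W, a ^ 2 = 1) (hg : ∀ a ∈ W, g * a * g⁻¹ ∈ W)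
    (hg2 : ∀ a ∈ W, g ^ 2 * a = a * g ^ 2) :
    Nat.card W ≤ Nat.card ↥(W ⊓ centralizer ({g} : Set X)) ^ 2 := by
  let f : W →* X :=
    { toFun := fun w => g * (w : X) * g⁻¹ * (w : X)⁻¹
      map_one' := by simp
      map_mul' := fun u v => by
        have hv : g * (v : X) * g⁻¹ * (v : X)⁻¹ ∈ W := mul_mem (hg _ v.2) (inv_mem v.2)
        have h := hc _ (inv_mem u.2) _ hv
        rw [Subgroup.coe_mul]
        calc g * ((u : X) * v) * g⁻¹ * ((u : X) * v)⁻¹
            = g * (u : X) * g⁻¹ * (g * (v : X) * g⁻¹ * (v : X)⁻¹ * (u : X)⁻¹) := by group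
          _ = _ := by rw [← h]; group }
  have hker : Nat.card f.ker ≤ Nat.card ↥(W ⊓ centralizer ({g} : Set X)) := by
    refine Nat.card_le_card_of_injective (fun w => ⟨((w : W) : X), (w : W).2, ?_⟩)
      (fun a b h => Subtype.ext (Subtype.ext (congrArg Subtype.val h :)))
    have h : g * ((w : W) : X) * g⁻¹ * ((w : W) : X)⁻¹ = 1 := w.2
    rw [mul_inv_eq_one, mul_inv_eq_iff_eq_mul] at h
    exact mem_centralizer_singleton_iff.2 h.symm
  have hrange : f.range ≤ W ⊓ centralizer ({g} : Set X) := by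
    rintro _ ⟨w, rfl⟩
    have hm : f w ∈ W := mul_mem (hg _ w.2) (inv_mem w.2)
    refine ⟨hm, mem_centralizer_singleton_iff.2 ?_⟩
    have h2 : g * (g * (w : X) * g⁻¹) * g⁻¹ = w := by
      calc g * (g * (w : X) * g⁻¹) * g⁻¹ = g ^ 2 * (w : X) * (g ^ 2)⁻¹ := by
            rw [pow_two]; group
        _ = w := by rw [hg2 _ w.2]; group
    have h3 : g * f w * g⁻¹ = (f w)⁻¹ := by
      calc g * f w * g⁻¹
          = g * (g * (w : X) * g⁻¹) * g⁻¹ * (g * (w : X) * g⁻¹)⁻¹ := by
            show g * (g * (w : X) * g⁻¹ * (w : X)⁻¹) * g⁻¹ = _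
            group
        _ = (w : X) * (g * (w : X) * g⁻¹)⁻¹ := by rw [h2]
        _ = (f w)⁻¹ := by show _ = (g * (w : X) * g⁻¹ * (w : X)⁻¹)⁻¹; group
    have h4 : (f w)⁻¹ = f w := by
      rw [inv_eq_iff_mul_eq_one, ← pow_two]; exact he _ hm
    rw [h4, mul_inv_eq_iff_eq_mul] at h3
    exact h3.symm
  have h1 := f.ker.card_mul_index
  rw [index_ker] at h1
  rw [← h1, pow_two]
  exact Nat.mul_le_mul hker (card_le_of_le hrange)

/-- Two subgroups with trivial intersection inside `W`. -/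
theorem card_mul_card_le {C B W : Subgroup X} (hC : C ≤ W) (hB : B ≤ W) (h : C ⊓ B = ⊥) :
    Nat.card C * Nat.card B ≤ Nat.card W := by
  rw [← Nat.card_prod]
  refine Nat.card_le_card_of_injective
    (fun p : C × B => (⟨(p.1 : X) * p.2, mul_mem (hC p.1.2) (hB p.2.2)⟩ : W)) ?_
  intro p q hpq
  have hd : Disjoint C B := disjoint_iff.2 h
  exact Subgroup.mul_injective_of_disjoint hd (congrArg Subtype.val hpq)

/-- The class of `a` under `L` injects into `K` if the commutators lie in `K`. -/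
theorem relIndex_centralizer_le (a : X) (L K : Subgroup X)
    (h : ∀ l ∈ L, l * a * l⁻¹ * a⁻¹ ∈ K) :
    (centralizer ({a} : Set X)).relIndex L ≤ Nat.card K := by
  refine Nat.card_le_card_of_injective
    (Quotient.lift (fun l : L => (⟨(l : X) * a * (l : X)⁻¹ * a⁻¹, h l l.2⟩ : K)) ?_) ?_
  · intro l m hlm
    have hlm' := QuotientGroup.leftRel_apply.1 hlm
    rw [mem_subgroupOf, mem_centralizer_singleton_iff] at hlm'
    apply Subtype.ext
    have hlm'' : ((l : X)⁻¹ * m) * a = a * ((l : X)⁻¹ * m) := hlm'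
    show (l : X) * a * (l : X)⁻¹ * a⁻¹ = (m : X) * a * (m : X)⁻¹ * a⁻¹
    congr 1
    calc (l : X) * a * (l : X)⁻¹ = (l : X) * (a * ((l : X)⁻¹ * m)) * (m : X)⁻¹ := by group
      _ = (l : X) * (((l : X)⁻¹ * m) * a) * (m : X)⁻¹ := by rw [hlm'']
      _ = _ := by group
  · intro p q
    refine Quotient.inductionOn₂ p q fun l m hlm => Quotient.sound ?_
    apply QuotientGroup.leftRel_apply.2
    rw [mem_subgroupOf, mem_centralizer_singleton_iff]
    have hlm' : (l : X) * a * (l : X)⁻¹ * a⁻¹ = (m : X) * a * (m : X)⁻¹ * a⁻¹ :=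
      congrArg Subtype.val hlm
    have := mul_right_cancel hlm'
    show (l : X)⁻¹ * m * a = a * ((l : X)⁻¹ * m)
    calc (l : X)⁻¹ * m * a = (l : X)⁻¹ * ((m : X) * a * (m : X)⁻¹) * m := by group
      _ = (l : X)⁻¹ * ((l : X) * a * (l : X)⁻¹) * m := by rw [this]
      _ = _ := by group

/-- Proper subgroups of subgroups of 2-groups: some element outside squares into it. -/
theorem exists_sq_mem (hX : IsPGroup 2 X) {T M : Subgroup X} (h : T < M) :
    ∃ g ∈ M, g ∉ T ∧ g ^ 2 ∈ T := by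
  obtain ⟨g, hgM, hgT⟩ := SetLike.exists_of_lt h
  obtain ⟨k, hk⟩ := hX g
  induction k generalizing g with
  | zero => exact absurd (by rw [pow_zero, pow_one] at hk; exact hk ▸ T.one_mem) hgT
  | succ k ih =>
    by_cases h2 : g ^ 2 ∈ T
    · exact ⟨g, hgM, hgT, h2⟩
    · exact ih (g ^ 2) (pow_mem hgM 2) h2 (by rw [← pow_mul, ← pow_succ']; exact hk)

theorem mem_normalizer_of_conj_mem {T : Subgroup X} {u : X} (h : ∀ t ∈ T, u * t * u⁻¹ ∈ T) :
    u ∈ normalizer (T : Set X) := by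
  have he : T.map (MulAut.conj u).toMonoidHom = T := by
    refine eq_of_le_of_card_ge ?_ ?_
    · rintro _ ⟨t, ht, rfl⟩
      exact h t ht
    · rw [card_map_of_injective (MulAut.conj u).injective]
  rw [mem_normalizer_iff]
  intro t
  refine ⟨h t, fun ht => ?_⟩
  have ht' : u * t * u⁻¹ ∈ T.map (MulAut.conj u).toMonoidHom := he.symm ▸ ht
  obtain ⟨s, hs, hst⟩ := ht'
  have hst' : u * s * u⁻¹ = u * t * u⁻¹ := hst
  exact mul_left_cancel (mul_right_cancel hst') ▸ hs

theorem conj_mem_of_mem_normalizer {T : Subgroup X} {u t : X} (h : u ∈ normalizer (T : Set X))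
    (ht : t ∈ T) : u * t * u⁻¹ ∈ T :=
  (mem_normalizer_iff.1 h t).1 ht

theorem eq_top_of_normalizer_eq (hX : IsPGroup 2 X) {M : Subgroup X}
    (h : normalizer (M : Set X) = M) : M = ⊤ := by
  haveI : Fact (Nat.Prime 2) := ⟨Nat.prime_two⟩
  haveI : Group.IsNilpotent X := hX.isNilpotent
  exact (normalizerCondition_iff_only_full_group_self_normalizing.1
    normalizerCondition_of_isNilpotent) M h

end CfsgLib.HaradaFour
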