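import Mathlib
import Cfsg.Agent.Lib.HaradaFour.Basic
import Cfsg.Agent.Lib.TwoGroups85.SectionalRankTwo

/-!
Harada's lemma, elementary case: an elementary abelian subgroup `T` of order 16 with a
four-subgroup `B` all of whose involutions have centralizer inside `T`.
-/

set_option autoImplicit false
set_option linter.style.haveILetI false

namespace CfsgLib.HaradaFour

open Subgroup

/-- The data: `T` elementary abelian of order 16, `B ≤ T` of order 4, `C(b) ≤ T` for `b ∈ B#`. -/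
structure Elem (X : Type*) [Group X] [Finite X] where
  hX : IsPGroup 2 X
  T : Subgroup X
  B : Subgroup X
  hBT : B ≤ T
  hB4 : Nat.card B = 4
  hT16 : Nat.card T = 16
  hTc : ∀ a ∈ T, ∀ b ∈ T, a * b = b * a
  hTe : ∀ a ∈ T, a ^ 2 = 1
  hCb : ∀ b ∈ B, b ≠ 1 → ∀ g : X, g * b = b * g → g ∈ T

namespace Elem

variable {X : Type*} [Group X] [Finite X] (E : Elem X)

/-- The centralizer of `g` in `T`. -/
def C (g : X) : Subgroup X := E.T ⊓ centralizer ({g} : Set X)

theorem C_inf_B {g : X} (hg : g ∉ E.T) : E.C g ⊓ E.B = ⊥ := by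
  rw [eq_bot_iff]
  rintro b ⟨⟨-, hbc⟩, hbB⟩
  by_contra hb
  exact hg (E.hCb b hbB (fun h => hb (mem_bot.2 h)) g
    (mem_centralizer_singleton_iff.1 hbc).symm)

theorem card_C_le {g : X} (hg : g ∉ E.T) : Nat.card (E.C g) ≤ 4 := by
  have h := card_mul_card_le (C := E.C g) inf_le_left E.hBT (E.C_inf_B hg)
  rw [E.hB4, E.hT16] at h
  omega

theorem card_C {g : X} (hg : g ∉ E.T) (hn : g ∈ normalizer (E.T : Set X)) (hg2 : g ^ 2 ∈ E.T) :
    Nat.card (E.C g) = 4 := by
  have h := card_le_sq g E.T E.hTc E.hTe (fun a ha => conj_mem_of_mem_normalizer hn ha)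
    (fun a ha => E.hTc _ hg2 a ha)
  have h' := E.card_C_le hg
  rw [E.hT16] at h
  have h3 : Nat.card ↥(E.T ⊓ centralizer ({g} : Set X)) = Nat.card (E.C g) := rfl
  rw [h3] at h
  rcases Nat.lt_or_ge (Nat.card (E.C g)) 4 with h4 | h4
  · have := Nat.pow_le_pow_left (Nat.le_sub_one_of_lt h4) 2
    omega
  · omega

theorem exists_decomp {g : X} (hg : g ∉ E.T) (h4 : Nat.card (E.C g) = 4) {t : X} (ht : t ∈ E.T) :
    ∃ b ∈ E.B, ∃ f ∈ E.C g, t = b * f := by
  have hinj : Function.Injective (fun p : E.B × E.C g =>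
      (⟨(p.1 : X) * p.2, mul_mem (E.hBT p.1.2) p.2.2.1⟩ : E.T)) := fun p q hpq =>
    Subgroup.mul_injective_of_disjoint
      (disjoint_iff.2 (inf_comm (E.C g) E.B ▸ E.C_inf_B hg)) (congrArg Subtype.val hpq)
  have hbij := hinj.bijective_of_nat_card_le (by rw [Nat.card_prod, E.hB4, h4, E.hT16])
  obtain ⟨⟨b, f⟩, hbf⟩ := hbij.2 ⟨t, ht⟩
  exact ⟨b, b.2, f, f.2, (congrArg Subtype.val hbf).symm⟩

theorem card_normalizer_le : Nat.card (normalizer (E.T : Set X)) ≤ 64 := by
  by_cases hTN : normalizer (E.T : Set X) ≤ E.T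
  · exact le_trans (card_le_of_le hTN) (by rw [E.hT16]; norm_num)
  set N := normalizer (E.T : Set X) with hNdef
  -- an element of order two in the centre of `N / T`
  haveI hTn : (E.T.subgroupOf N).Normal := normal_in_normalizer
  let π := QuotientGroup.mk' (E.T.subgroupOf N)
  have hne : (⊤ : Subgroup (N ⧸ E.T.subgroupOf N)) ≠ ⊥ := by
    intro h
    apply hTN
    intro n hn
    have : π ⟨n, hn⟩ ∈ (⊥ : Subgroup (N ⧸ E.T.subgroupOf N)) := h ▸ mem_top _
    exact (QuotientGroup.eq_one_iff (N := E.T.subgroupOf N) _).1 (mem_bot.1 this)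
  have hQ2 : IsPGroup 2 (N ⧸ E.T.subgroupOf N) :=
    (E.hX.to_subgroup N).to_quotient _
  obtain ⟨z, -, hzc, hz1, hz2⟩ := CfsgLib.TwoGroups85.exists_central_involution_mem hQ2 hne
  obtain ⟨⟨g, hgN⟩, rfl⟩ := QuotientGroup.mk'_surjective _ z
  have hgT : g ∉ E.T := fun h => hz1 ((QuotientGroup.eq_one_iff _).2 h)
  have hg2 : g ^ 2 ∈ E.T :=
    (QuotientGroup.eq_one_iff (N := E.T.subgroupOf N) _).1 ((map_pow π ⟨g, hgN⟩ 2).trans hz2)
  have hgc : ∀ n ∈ N, n * g * n⁻¹ * g⁻¹ ∈ E.T := by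
    intro n hn
    have h : π (⟨n, hn⟩ * ⟨g, hgN⟩ * ⟨n, hn⟩⁻¹ * ⟨g, hgN⟩⁻¹) = 1 := by
      simp only [map_mul, map_inv]
      have hc := (mem_center_iff.1 hzc) (π ⟨n, hn⟩)
      change π _ * π _ = π _ * π _ at hc
      rw [hc]; group
    exact (QuotientGroup.eq_one_iff (N := E.T.subgroupOf N) _).1 h
  have h4 := E.card_C hgT hgN hg2
  set F := E.C g with hFdef
  have hFn : ∀ n ∈ N, ∀ f ∈ F, n * f * n⁻¹ ∈ F := by
    intro n hn f hf
    have hm : n * f * n⁻¹ ∈ E.T := conj_mem_of_mem_normalizer hn hf.1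
    refine ⟨hm, mem_centralizer_singleton_iff.2 ?_⟩
    have h1 : Commute (n * f * n⁻¹) (n * g * n⁻¹) := by
      have hfg : Commute f g := mem_centralizer_singleton_iff.1 hf.2
      show n * f * n⁻¹ * (n * g * n⁻¹) = n * g * n⁻¹ * (n * f * n⁻¹)
      calc n * f * n⁻¹ * (n * g * n⁻¹) = n * (f * g) * n⁻¹ := by group
        _ = n * (g * f) * n⁻¹ := by rw [hfg.eq]
        _ = _ := by group
    have h2 : Commute (n * f * n⁻¹) (n * g * n⁻¹ * g⁻¹) := E.hTc _ hm _ (hgc n hn)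
    have h3 : Commute (n * f * n⁻¹) ((n * g * n⁻¹ * g⁻¹)⁻¹ * (n * g * n⁻¹)) :=
      h2.inv_right.mul_right h1
    rwa [mul_inv_rev, inv_inv, mul_assoc g, inv_mul_cancel, mul_one] at h3
  have hFN : F ≤ N := fun f hf => E.T.le_normalizer hf.1
  haveI hFnormal : (F.subgroupOf N).Normal := ⟨fun f hf n => hFn n n.2 f hf⟩
  let ρ := QuotientGroup.mk' (F.subgroupOf N)
  haveI : ((E.T.subgroupOf N).map ρ).Normal :=
    hTn.map ρ (QuotientGroup.mk'_surjective _)
  have hne2 : (E.T.subgroupOf N).map ρ ≠ ⊥ := by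
    intro h
    have hle : E.T ≤ F := fun t ht => by
      have : ρ ⟨t, E.T.le_normalizer ht⟩ ∈ (E.T.subgroupOf N).map ρ := ⟨_, ht, rfl⟩
      rw [h, mem_bot] at this
      exact (QuotientGroup.eq_one_iff (N := F.subgroupOf N) _).1 this
    have := card_le_of_le hle
    rw [E.hT16, h4] at this
    omega
  have hQ2' : IsPGroup 2 (N ⧸ F.subgroupOf N) := (E.hX.to_subgroup N).to_quotient _
  obtain ⟨w, ⟨⟨t, htN⟩, htT, rfl⟩, hwc, hw1, -⟩ :=
    CfsgLib.TwoGroups85.exists_central_involution_mem hQ2' hne2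
  have htT' : t ∈ E.T := htT
  have htF : t ∉ F := fun h => hw1 ((QuotientGroup.eq_one_iff _).2 h)
  obtain ⟨b, hb, f, hf, rfl⟩ := E.exists_decomp hgT h4 htT'
  have hb1 : b ≠ 1 := fun h => htF (by rw [h, one_mul]; exact hf)
  have hcomm : ∀ n ∈ N, n * b * n⁻¹ * b⁻¹ ∈ F := by
    intro n hn
    have h : ρ (⟨n, hn⟩ * ⟨b * f, htN⟩ * ⟨n, hn⟩⁻¹ * ⟨b * f, htN⟩⁻¹) = 1 := by
      simp only [map_mul, map_inv]
      rw [(mem_center_iff.1 hwc) (ρ ⟨n, hn⟩)]
      group
    have h1 : n * (b * f) * n⁻¹ * (b * f)⁻¹ ∈ F :=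
      (QuotientGroup.eq_one_iff (N := F.subgroupOf N) _).1 h
    have hm : (n * b * n⁻¹ * b⁻¹) ∈ E.T :=
      mul_mem (conj_mem_of_mem_normalizer hn (E.hBT hb)) (inv_mem (E.hBT hb))
    have h2 : n * b * n⁻¹ * b⁻¹
        = n * (b * f) * n⁻¹ * (b * f)⁻¹ * (n * f * n⁻¹ * f⁻¹)⁻¹ := by
      have hc := E.hTc _ hm _ (conj_mem_of_mem_normalizer hn hf.1)
      have hbf : b * f = f * b := E.hTc _ (E.hBT hb) _ hf.1
      have hprod : n * (b * f) * n⁻¹ * (b * f)⁻¹
          = n * b * n⁻¹ * b⁻¹ * ((n * f * n⁻¹) * f⁻¹) := by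
        have hbn : b⁻¹ * (n * f * n⁻¹) = (n * f * n⁻¹) * b⁻¹ :=
          E.hTc _ (inv_mem (E.hBT hb)) _ (conj_mem_of_mem_normalizer hn hf.1)
        calc n * (b * f) * n⁻¹ * (b * f)⁻¹
            = n * b * n⁻¹ * ((n * f * n⁻¹) * b⁻¹) * f⁻¹ := by
              rw [hbf, mul_inv_rev, ← hbf]; group
          _ = _ := by rw [← hbn]; group
      rw [hprod]; group
    rw [h2]
    exact mul_mem h1 (inv_mem (mul_mem (hFn n hn f hf) (inv_mem hf)))
  have hle : E.T.relIndex N ≤ 4 := by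
    have hsub : centralizer ({b} : Set X) ≤ E.T := fun n hn =>
      E.hCb b hb hb1 n (mem_centralizer_singleton_iff.1 hn)
    refine le_trans (relIndex_le_of_le_left hsub ?_) (h4 ▸ relIndex_centralizer_le b N F hcomm)
    exact FiniteIndex.index_ne_zero
  have := card_mul_index (E.T.subgroupOf N)
  rw [Nat.card_congr (subgroupOfEquivOfLe E.T.le_normalizer).toEquiv, E.hT16] at this
  have hri : (E.T.subgroupOf N).index = E.T.relIndex N := rfl
  rw [hri] at this
  omega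

theorem card_eq (L : Subgroup X) : Nat.card L = Nat.card ↥(E.T ⊓ L) * E.T.relIndex L := by
  have h := card_mul_index (E.T.subgroupOf L)
  rw [← inf_subgroupOf_right, Nat.card_congr (subgroupOfEquivOfLe inf_le_right).toEquiv,
    inf_subgroupOf_right] at h
  exact h.symm

theorem relIndex_normalizer_le : E.T.relIndex (normalizer (E.T : Set X)) ≤ 4 := by
  have h := E.card_eq (normalizer (E.T : Set X))
  rw [inf_eq_left.2 E.T.le_normalizer, E.hT16] at h
  have := E.card_normalizer_le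
  omega

theorem relIndex_le {L : Subgroup X} (hL : L ≤ normalizer (E.T : Set X)) : E.T.relIndex L ≤ 4 :=
  le_trans (relIndex_le_of_le_right hL FiniteIndex.index_ne_zero) E.relIndex_normalizer_le

/-- The key lower bound: a subgroup of order at least 32 of `N(T)` with squares in `K`
forces `|K| ≥ 4`. -/
theorem four_le_card {L K : Subgroup X} (hL : L ≤ normalizer (E.T : Set X))
    (hsq : ∀ x ∈ L, x ^ 2 ∈ K) (h32 : 32 ≤ Nat.card L) : 4 ≤ Nat.card K := by
  open scoped commutatorElement in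
  have hcom : ∀ a ∈ L, ∀ l ∈ L, l * a * l⁻¹ * a⁻¹ ∈ K := fun a ha l hl => by
    have := CfsgLib.MacWilliams.commutator_mem_of_sq_mem hsq hl ha
    rwa [commutatorElement_def] at this
  have hcard := E.card_eq L
  have hr := E.relIndex_le hL
  have hi : Nat.card ↥(E.T ⊓ L) ≤ 16 := E.hT16 ▸ card_le_of_le inf_le_left
  by_cases h16 : E.T ≤ L
  · rw [inf_eq_left.2 h16, E.hT16] at hcard
    have hlt : E.T < L := lt_of_le_of_ne h16 (fun h => by rw [← h, E.hT16] at h32; omega)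
    obtain ⟨l, hlL, hlT⟩ := SetLike.exists_of_lt hlt
    have h1 := relIndex_centralizer_le l E.T K (fun t ht => hcom l hlL t (h16 ht))
    have h2 := card_mul_index ((centralizer ({l} : Set X)).subgroupOf E.T)
    rw [← inf_subgroupOf_left,
      Nat.card_congr (subgroupOfEquivOfLe inf_le_left).toEquiv, inf_subgroupOf_left, E.hT16] at h2
    have h3 := E.card_C_le hlT
    have h4 : ((centralizer ({l} : Set X)).subgroupOf E.T).index
        = (centralizer ({l} : Set X)).relIndex E.T := rfl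
    rw [h4] at h2
    have h5 : Nat.card ↥(E.T ⊓ centralizer ({l} : Set X)) = Nat.card (E.C l) := rfl
    rw [h5] at h2
    by_contra h6
    have : Nat.card (E.C l) * (centralizer ({l} : Set X)).relIndex E.T ≤ 4 * 3 :=
      Nat.mul_le_mul h3 (by omega)
    omega
  · have hlt : Nat.card ↥(E.T ⊓ L) < 16 := by
      refine lt_of_le_of_ne hi fun h => h16 ?_
      exact inf_eq_left.1 (eq_of_le_of_card_ge inf_le_left (by rw [h, E.hT16]))
    obtain ⟨k, hk⟩ := CfsgLib.MacWilliams.exists_card_eq_two_pow E.hX (E.T ⊓ L)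
    have h8 : Nat.card ↥(E.T ⊓ L) ≤ 8 := by
      rw [hk] at hlt ⊢
      have : k < 4 := (Nat.pow_lt_pow_iff_right one_lt_two).1 (by norm_num; omega)
      exact le_trans (Nat.pow_le_pow_right two_pos (by omega : k ≤ 3)) (by norm_num)
    have hbig : 5 ≤ Nat.card ↥(E.T ⊓ L) := by
      by_contra h
      have := Nat.mul_le_mul (Nat.le_of_lt_succ (Nat.lt_of_not_le h)) hr
      omega
    -- `T ∩ L` meets `B`
    have hmeet : (E.T ⊓ L) ⊓ E.B ≠ ⊥ := by
      intro h
      have := card_mul_card_le (inf_le_left : E.T ⊓ L ≤ E.T) E.hBT h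
      rw [E.hB4, E.hT16] at this
      omega
    obtain ⟨a, ha, ha1'⟩ : ∃ a ∈ (E.T ⊓ L) ⊓ E.B, a ≠ 1 := by
      by_contra h
      apply hmeet
      rw [eq_bot_iff]
      intro a ha
      rw [mem_bot]
      by_contra ha1
      exact h ⟨a, ha, ha1⟩
    have haL : a ∈ L := ha.1.2
    have haB : a ∈ E.B := ha.2
    have h1 := relIndex_centralizer_le a L K (fun l hl => hcom a haL l hl)
    have hsub : centralizer ({a} : Set X) ≤ E.T := fun n hn =>
      E.hCb a haB ha1' n (mem_centralizer_singleton_iff.1 hn)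
    have h2 : E.T.relIndex L ≤ Nat.card K :=
      le_trans (relIndex_le_of_le_left hsub FiniteIndex.index_ne_zero) h1
    by_contra h6
    have := Nat.mul_le_mul h8 (by omega : E.T.relIndex L ≤ 3)
    omega

end Elem

end CfsgLib.HaradaFour
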