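import Mathlib
import Cfsg.Agent.Lib.HaradaFour.Elementary

/-!
Harada's lemma, elementary case: at most two elementary abelian subgroups of order 16 in `N(T)`,
so the 2-group has order at most 128.
-/

set_option autoImplicit false
set_option linter.style.haveILetI false

namespace CfsgLib.HaradaFour

open Subgroup

variable {X : Type*} [Group X] [Finite X]

theorem comm_of_sq {G : Type*} [Group G] (h : ∀ g : G, g ^ 2 = 1) (a b : G) : a * b = b * a := by
  have hi : ∀ g : G, g⁻¹ = g := fun g => inv_eq_of_mul_eq_one_left (by rw [← pow_two]; exact h g)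
  calc a * b = (a * b)⁻¹ := (hi _).symm
    _ = b * a := by rw [mul_inv_rev, hi, hi]

/-- The conjugate `u L u⁻¹`. -/
def cj (u : X) (L : Subgroup X) : Subgroup X := L.map (MulAut.conj u).toMonoidHom

theorem mem_cj {u : X} {L : Subgroup X} {v : X} (h : v ∈ L) : u * v * u⁻¹ ∈ cj u L :=
  ⟨v, h, rfl⟩

theorem card_cj (u : X) (L : Subgroup X) : Nat.card (cj u L) = Nat.card L :=
  card_map_of_injective (MulAut.conj u).injective

theorem sq_cj {u : X} {L : Subgroup X} (h : ∀ a ∈ L, a ^ 2 = 1) : ∀ a ∈ cj u L, a ^ 2 = 1 := by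
  rintro _ ⟨a, ha, rfl⟩
  rw [← map_pow, h a ha, map_one]

theorem mem_normalizer_of_cj_eq {u : X} {L : Subgroup X} (h : cj u L = L) :
    u ∈ normalizer (L : Set X) :=
  mem_normalizer_of_conj_mem fun _ ht => le_of_eq h (mem_cj ht)

theorem cj_le_self {u : X} {L : Subgroup X} (h : u ∈ normalizer (L : Set X)) : cj u L ≤ L := by
  rintro _ ⟨a, ha, rfl⟩
  exact conj_mem_of_mem_normalizer h ha

theorem le_or_le {L P Q : Subgroup X} (h : ∀ x ∈ L, x ∈ P ∨ x ∈ Q) : L ≤ P ∨ L ≤ Q := by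
  by_contra! hc
  obtain ⟨⟨x, hxL, hxP⟩, ⟨y, hyL, hyQ⟩⟩ :=
    And.intro (SetLike.not_le_iff_exists.1 hc.1) (SetLike.not_le_iff_exists.1 hc.2)
  have hxQ : x ∈ Q := (h x hxL).resolve_left hxP
  have hyP : y ∈ P := (h y hyL).resolve_right hyQ
  rcases h (x * y) (mul_mem hxL hyL) with hm | hm
  · exact hxP ((mul_mem_cancel_right hyP).1 hm)
  · exact hyQ ((mul_mem_cancel_left hxQ).1 hm)

namespace Elem

variable (E : Elem X)

/-- An elementary abelian subgroup of order 16 of `N(T)`. -/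
structure Other (A : Subgroup X) : Prop where
  le : A ≤ normalizer (E.T : Set X)
  card : Nat.card A = 16
  sq : ∀ a ∈ A, a ^ 2 = 1

variable {E}

theorem Other.comm {A : Subgroup X} (hA : E.Other A) :
    ∀ a ∈ A, ∀ b ∈ A, a * b = b * a := fun a ha b hb =>
  congrArg Subtype.val (comm_of_sq (G := A)
    (fun g => Subtype.ext (hA.sq g g.2)) ⟨a, ha⟩ ⟨b, hb⟩)

theorem Other.facts {A : Subgroup X} (hA : E.Other A) (hne : A ≠ E.T) :
    Nat.card ↥(E.T ⊓ A) = 4 ∧ (∀ a ∈ A, a ∉ E.T → E.C a = E.T ⊓ A) ∧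
      A ⊔ E.T = normalizer (E.T : Set X) := by
  obtain ⟨a, haA, haT⟩ : ∃ a ∈ A, a ∉ E.T := by
    by_contra! h
    exact hne (eq_of_le_of_card_ge h (by rw [hA.card, E.hT16]))
  have hsub : ∀ a ∈ A, E.T ⊓ A ≤ E.C a := fun a ha t ht =>
    ⟨ht.1, mem_centralizer_singleton_iff.2 (hA.comm t ht.2 a ha)⟩
  have hle : Nat.card ↥(E.T ⊓ A) ≤ 4 := le_trans (card_le_of_le (hsub a haA)) (E.card_C_le haT)
  have hcard := E.card_eq A
  have hr := E.relIndex_le hA.le
  rw [hA.card] at hcard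
  have h4 : Nat.card ↥(E.T ⊓ A) = 4 := by
    have := Nat.mul_le_mul_left (Nat.card ↥(E.T ⊓ A)) hr
    omega
  have hr4 : E.T.relIndex A = 4 := by rw [h4] at hcard; omega
  refine ⟨h4, fun a ha haT => ?_, ?_⟩
  · exact (eq_of_le_of_card_ge (hsub a ha) (h4 ▸ E.card_C_le haT)).symm
  · have hsup : A ⊔ E.T ≤ normalizer (E.T : Set X) := sup_le hA.le E.T.le_normalizer
    refine eq_of_le_of_card_ge hsup ?_
    have h1 := E.card_eq (A ⊔ E.T)
    rw [inf_eq_left.2 le_sup_right, E.hT16] at h1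
    have h2 : E.T.relIndex A ≤ E.T.relIndex (A ⊔ E.T) :=
      relIndex_le_of_le_right le_sup_left FiniteIndex.index_ne_zero
    have := E.card_normalizer_le
    omega

/-- Involutions of `N(T)` outside `T` lie in any other elementary subgroup of order 16. -/
theorem Other.mem_of_sq {A : Subgroup X} (hA : E.Other A) (hne : A ≠ E.T) {w : X}
    (hw : w ∈ normalizer (E.T : Set X)) (hwT : w ∉ E.T) (hw2 : w ^ 2 = 1) : w ∈ A := by
  obtain ⟨-, hC, hsup⟩ := hA.facts hne
  have hm : w ∈ ((A ⊔ E.T : Subgroup X) : Set X) := by rw [hsup]; exact hw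
  rw [coe_mul_of_left_le_normalizer_right A E.T hA.le] at hm
  obtain ⟨a, ha, t, ht, rfl⟩ := hm
  change a * t ∉ E.T at hwT
  change (a * t) ^ 2 = 1 at hw2
  have haT : a ∉ E.T := fun h => hwT (mul_mem h ht)
  have ha2 : a * a = 1 := by rw [← pow_two]; exact hA.sq a ha
  have ht2 : t * t = 1 := by rw [← pow_two]; exact E.hTe t ht
  have htc : t ∈ E.C a := by
    refine ⟨ht, mem_centralizer_singleton_iff.2 ?_⟩
    rw [pow_two] at hw2
    calc t * a = (a * a) * (t * a) * (t * t) := by rw [ha2, ht2, one_mul, mul_one]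
      _ = a * ((a * t) * (a * t)) * t := by group
      _ = a * t := by rw [hw2, mul_one]
  rw [hC a ha haT] at htc
  exact mul_mem ha htc.2

theorem Other.eq {A A' : Subgroup X} (hA : E.Other A) (hne : A ≠ E.T) (hA' : E.Other A')
    (hne' : A' ≠ E.T) : A' = A := by
  obtain ⟨a', ha', ha'T⟩ : ∃ a ∈ A', a ∉ E.T := by
    by_contra! h
    exact hne' (eq_of_le_of_card_ge h (by rw [hA'.card, E.hT16]))
  have hout : ∀ v ∈ A', v ∉ E.T → v ∈ A := fun v hv hvT =>
    hA.mem_of_sq hne (hA'.le hv) hvT (hA'.sq v hv)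
  refine eq_of_le_of_card_ge (fun v hv => ?_) (by rw [hA.card, hA'.card])
  by_cases hvT : v ∈ E.T
  · have h1 : a' * v ∈ A :=
      hout _ (mul_mem ha' hv) (fun h => ha'T ((mul_mem_cancel_right hvT).1 h))
    exact (mul_mem_cancel_left (hout a' ha' ha'T)).1 h1
  · exact hout v hv hvT

theorem other_T (E : Elem X) : E.Other E.T := ⟨E.T.le_normalizer, E.hT16, E.hTe⟩

theorem Other.normal {A : Subgroup X} (hA : E.Other A) (hne : A ≠ E.T) {n : X}
    (hn : n ∈ normalizer (E.T : Set X)) : cj n A = A := by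
  refine hA.eq hne ⟨?_, (card_cj n A).trans hA.card, sq_cj hA.sq⟩ ?_
  · rintro _ ⟨a, ha, rfl⟩
    exact mul_mem (mul_mem hn (hA.le ha)) (inv_mem hn)
  · intro h
    apply hne
    have hnT : cj n E.T = E.T := eq_of_le_of_card_ge (cj_le_self hn) (by rw [card_cj])
    exact map_injective (MulAut.conj n).injective (h.trans hnT.symm)

/-- Structure of the 2-group `X`: either `N(T) = X` or there is a second subgroup `A`
swapped with `T` and `|X| ≤ 128`. -/
theorem structure_top (E : Elem X) :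
    normalizer (E.T : Set X) = ⊤ ∨
      ∃ A : Subgroup X, E.Other A ∧ A ≠ E.T ∧ ∃ w : X, cj w E.T = A ∧ cj w A = E.T ∧
        Nat.card X ≤ 2 * Nat.card (normalizer (E.T : Set X)) ∧
        (∀ h : X, h ∉ normalizer (E.T : Set X) → cj h E.T = A ∧ cj h A = E.T) ∧
        (∀ L : Subgroup X, Nat.card L ≤ 2 * Nat.card ↥(L ⊓ normalizer (E.T : Set X))) := by
  set N := normalizer (E.T : Set X) with hN
  set U := normalizer (N : Set X) with hU
  have himg : ∀ u ∈ U, E.Other (cj u E.T) := fun u hu => by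
    refine ⟨?_, (card_cj u E.T).trans E.hT16, sq_cj E.hTe⟩
    rintro _ ⟨t, ht, rfl⟩
    exact conj_mem_of_mem_normalizer hu (E.T.le_normalizer ht)
  by_cases hall : ∀ u ∈ U, cj u E.T = E.T
  · exact Or.inl (eq_top_of_normalizer_eq E.hX
      (le_antisymm (fun u hu => mem_normalizer_of_cj_eq (hall u hu)) N.le_normalizer))
  push Not at hall
  obtain ⟨w, hwU, hwne⟩ := hall
  set A := cj w E.T with hAdef
  have hA : E.Other A := himg w hwU
  have hswap : ∀ u ∈ U, u ∉ N → cj u E.T = A ∧ cj u A = E.T := by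
    intro u hu huN
    have h1 : cj u E.T = A :=
      hA.eq hwne (himg u hu) fun h => huN (mem_normalizer_of_cj_eq h)
    refine ⟨h1, ?_⟩
    by_contra h2
    have hAu : E.Other (cj u A) := by
      refine ⟨?_, (card_cj u A).trans hA.card, sq_cj hA.sq⟩
      rintro _ ⟨a, ha, rfl⟩
      exact conj_mem_of_mem_normalizer hu (hA.le ha)
    have h3 := (hA.eq hwne hAu h2).trans h1.symm
    exact hwne (map_injective (MulAut.conj u).injective h3)
  have hsup := (hA.facts hwne).2.2
  have hidx : ∀ L : Subgroup X, L ≤ U → Nat.card L ≤ 2 * Nat.card ↥(L ⊓ N) := by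
    intro L hL
    classical
    by_cases hLN : L ≤ N
    · rw [inf_eq_left.2 hLN]; omega
    obtain ⟨c, hcL, hcN⟩ := SetLike.not_le_iff_exists.1 hLN
    have hmem : ∀ l ∈ L, l ∉ N → c⁻¹ * l ∈ N := by
      intro l hl hlN
      apply mem_normalizer_of_conj_mem
      intro t ht
      have h1 := mem_cj (u := l) ht
      rw [(hswap l (hL hl) hlN).1, ← (hswap c (hL hcL) hcN).1] at h1
      obtain ⟨s, hs, hst⟩ := h1
      have hst' : c * s * c⁻¹ = l * t * l⁻¹ := hst
      have : c⁻¹ * l * t * (c⁻¹ * l)⁻¹ = s := by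
        calc c⁻¹ * l * t * (c⁻¹ * l)⁻¹ = c⁻¹ * (l * t * l⁻¹) * c := by group
          _ = s := by rw [← hst']; group
      rw [this]; exact hs
    have hsur : Function.Surjective (fun p : Bool × ↥(L ⊓ N) =>
        (⟨(if p.1 then c else 1) * (p.2 : X),
          mul_mem (by split <;> first | exact hcL | exact L.one_mem) p.2.2.1⟩ : L)) := by
      rintro ⟨l, hl⟩
      by_cases hlN : l ∈ N
      · exact ⟨(false, ⟨l, hl, hlN⟩), Subtype.ext (by simp)⟩
      · exact ⟨(true, ⟨c⁻¹ * l, L.mul_mem (L.inv_mem hcL) hl, hmem l hl hlN⟩), Subtype.ext (by simp)⟩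
    have := Nat.card_le_card_of_surjective _ hsur
    simpa [Nat.card_prod] using this
  -- every elementary subgroup of order 16 of `U` lies in `N`
  have hEin : ∀ Q : Subgroup X, Q ≤ U → Nat.card Q = 16 → (∀ q ∈ Q, q ^ 2 = 1) → Q ≤ N := by
    intro Q hQU hQ16 hQ2
    by_contra hQN
    obtain ⟨c, hcQ, hcN⟩ := SetLike.not_le_iff_exists.1 hQN
    have h8 := hidx Q hQU
    rw [hQ16] at h8
    have hfix : ∀ v ∈ Q ⊓ N, c * v * c⁻¹ = v := by
      intro v hv
      have hc : Commute c v := congrArg Subtype.val (comm_of_sq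
        (G := Q) (fun g => Subtype.ext (hQ2 g g.2)) ⟨c, hcQ⟩ ⟨v, hv.1⟩)
      rw [hc.eq, mul_inv_cancel_right]
    have hcase : Q ⊓ N ≤ E.T ∨ Q ⊓ N ≤ A := le_or_le fun v hv => by
      by_cases hvT : v ∈ E.T
      · exact Or.inl hvT
      · exact Or.inr (hA.mem_of_sq hwne hv.2 hvT (hQ2 v hv.1))
    obtain ⟨hs1, hs2⟩ := hswap c (hQU hcQ) hcN
    have hle : Q ⊓ N ≤ E.T ⊓ A := by
      rcases hcase with h | h
      · exact le_inf h fun v hv => hfix v hv ▸ hs1.le (mem_cj (h hv))
      · exact le_inf (fun v hv => hfix v hv ▸ hs2.le (mem_cj (h hv))) h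
    have h4 := card_le_of_le hle
    rw [(hA.facts hwne).1] at h4
    omega
  have htop : U = ⊤ := by
    refine eq_top_of_normalizer_eq E.hX (le_antisymm (fun v hv => ?_) U.le_normalizer)
    have hNU : N ≤ U := N.le_normalizer
    have hin : ∀ Q : Subgroup X, E.Other Q → cj v Q ≤ N := fun Q hQ => by
      refine hEin _ ?_ ((card_cj v Q).trans hQ.card) (sq_cj hQ.sq)
      rintro _ ⟨q, hq, rfl⟩
      exact conj_mem_of_mem_normalizer hv (hNU (hQ.le hq))
    apply mem_normalizer_of_conj_mem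
    intro n hn
    have hn' : n ∈ ((A ⊔ E.T : Subgroup X) : Set X) := by rw [hsup]; exact hn
    rw [coe_mul_of_left_le_normalizer_right A E.T hA.le] at hn'
    obtain ⟨a, ha, t, ht, rfl⟩ := hn'
    have h1 : v * (a * t) * v⁻¹ = v * a * v⁻¹ * (v * t * v⁻¹) := by group
    show v * (a * t) * v⁻¹ ∈ N
    rw [h1]
    exact mul_mem (hin A hA (mem_cj ha)) (hin E.T (other_T E) (mem_cj ht))
  have hwN : w ∉ N := fun h => hwne (eq_of_le_of_card_ge (cj_le_self h) (by rw [card_cj]))
  refine Or.inr ⟨A, hA, hwne, w, rfl, (hswap w hwU hwN).2, ?_, ?_, fun L => ?_⟩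
  · have := hidx U le_rfl
    rw [htop, top_inf_eq, card_top] at this
    exact this
  · exact fun h hh => hswap h (htop ▸ mem_top h) hh
  · exact hidx L (htop ▸ le_top)

/-- The rank bound in the elementary case with `T` proper. -/
theorem bound (E : Elem X) (hT : E.T ≠ ⊤) (H K : Subgroup X)
    (hsq : ∀ x ∈ H, x ^ 2 ∈ K) : Nat.card H ≤ 2 ^ 4 * Nat.card K := by
  by_contra hlt
  obtain ⟨a, ha⟩ := CfsgLib.MacWilliams.exists_card_eq_two_pow E.hX H
  obtain ⟨b, hb⟩ := CfsgLib.MacWilliams.exists_card_eq_two_pow E.hX K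
  have hab : b + 5 ≤ a := by
    rw [ha, hb, ← pow_add, not_le] at hlt
    have := (Nat.pow_lt_pow_iff_right one_lt_two).1 hlt
    omega
  have hH : 32 * Nat.card K ≤ Nat.card H := by
    rw [ha, hb, show 32 = 2 ^ 5 by norm_num, ← pow_add]
    exact Nat.pow_le_pow_right two_pos (by omega)
  have hKpos : 1 ≤ Nat.card K := Nat.card_pos
  have hN64 := E.card_normalizer_le
  rcases structure_top E with htop | ⟨A, hA, hne, w, hwT, hwA, hcardX, hswap, hidx⟩
  · rw [htop, card_top] at hN64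
    have hle := card_le_card_group H
    have := E.four_le_card (L := H) (htop ▸ le_top) hsq (by omega)
    omega
  set N := normalizer (E.T : Set X) with hN
  have hle : Nat.card H ≤ 128 := le_trans (card_le_card_group H) (by omega)
  have hL := hidx H
  have hsqL : ∀ x ∈ H ⊓ N, x ^ 2 ∈ K := fun x hx => hsq x hx.1
  by_cases h64 : 64 ≤ Nat.card H
  · have hK4 := E.four_le_card (L := H ⊓ N) inf_le_right hsqL (by omega)
    have hH128 : Nat.card H = 128 := by omega
    have hKeq : Nat.card K = 4 := by omega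
    have hHtop : H = ⊤ := eq_top_of_card_eq H (by have := card_le_card_group H; omega)
    obtain ⟨a, haA, haT⟩ : ∃ a ∈ A, a ∉ E.T := by
      by_contra! h
      exact hne (eq_of_le_of_card_ge h (by rw [hA.card, E.hT16]))
    have hcom : ∀ x y : X, x * y * x⁻¹ * y⁻¹ ∈ K := fun x y => by
      open scoped commutatorElement in
      have := CfsgLib.MacWilliams.commutator_mem_of_sq_mem hsq (a := x) (b := y)
        (hHtop ▸ mem_top x) (hHtop ▸ mem_top y)
      rwa [commutatorElement_def] at this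
    have hin : ∀ t ∈ E.T, t * a * t⁻¹ * a⁻¹ ∈ K ⊓ (E.T ⊓ A) := fun t ht => by
      refine ⟨hcom t a, ?_, ?_⟩
      · have h1 : t * a * t⁻¹ * a⁻¹ = t * (a * t⁻¹ * a⁻¹) := by group
        rw [h1]
        exact mul_mem ht (conj_mem_of_mem_normalizer (hA.le haA) (inv_mem ht))
      · exact A.mul_mem ((hA.normal hne (E.T.le_normalizer ht)).le (mem_cj haA)) (A.inv_mem haA)
    have h1 := relIndex_centralizer_le a E.T (K ⊓ (E.T ⊓ A)) hin
    have h2 := card_mul_index ((centralizer ({a} : Set X)).subgroupOf E.T)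
    rw [← inf_subgroupOf_left,
      Nat.card_congr (subgroupOfEquivOfLe inf_le_left).toEquiv, inf_subgroupOf_left, E.hT16] at h2
    have h3 : Nat.card ↥(E.T ⊓ centralizer ({a} : Set X)) ≤ 4 := E.card_C_le haT
    have h4 : ((centralizer ({a} : Set X)).subgroupOf E.T).index
        = (centralizer ({a} : Set X)).relIndex E.T := rfl
    rw [h4] at h2
    have h5 : 4 ≤ (centralizer ({a} : Set X)).relIndex E.T := by
      by_contra h6
      have : Nat.card ↥(E.T ⊓ centralizer ({a} : Set X)) *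
          (centralizer ({a} : Set X)).relIndex E.T ≤ 4 * 3 := Nat.mul_le_mul h3 (by omega)
      omega
    have hKT : K ≤ E.T := by
      have := eq_of_le_of_card_ge (inf_le_left : K ⊓ (E.T ⊓ A) ≤ K) (by omega)
      exact fun k hk => ((this.symm ▸ hk : k ∈ K ⊓ (E.T ⊓ A))).2.1
    apply hne
    have hwN : cj w E.T ≤ E.T := by
      rintro _ ⟨t, ht, rfl⟩
      have : w * t * w⁻¹ = w * t * w⁻¹ * t⁻¹ * t := by group
      show w * t * w⁻¹ ∈ E.T
      rw [this]
      exact mul_mem (hKT (hcom w t)) ht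
    rw [← hwT]
    exact eq_of_le_of_card_ge hwN (by rw [card_cj])
  · have hH32 : Nat.card H = 32 := by
      have h5 : 2 ^ a < 2 ^ 6 := by rw [← ha]; omega
      have := (Nat.pow_lt_pow_iff_right one_lt_two).1 h5
      rw [ha, show a = 5 by omega]; norm_num
    have hK1 : Nat.card K = 1 := by omega
    have hKbot : K = ⊥ := eq_bot_of_card_eq K hK1
    have hH2 : ∀ x ∈ H, x ^ 2 = 1 := fun x hx => mem_bot.1 (hKbot ▸ hsq x hx)
    have hHc : ∀ x ∈ H, ∀ y ∈ H, x * y = y * x := fun x hx y hy =>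
      congrArg Subtype.val (comm_of_sq (G := H)
        (fun g => Subtype.ext (hH2 g g.2)) ⟨x, hx⟩ ⟨y, hy⟩)
    obtain ⟨j, hj⟩ := CfsgLib.MacWilliams.exists_card_eq_two_pow E.hX (H ⊓ N)
    have hlt32 : Nat.card ↥(H ⊓ N) < 32 := by
      by_contra h
      have := E.four_le_card (L := H ⊓ N) inf_le_right hsqL (by omega)
      omega
    have h16 : Nat.card ↥(H ⊓ N) = 16 := by
      rw [hj] at hlt32
      have : j < 5 := (Nat.pow_lt_pow_iff_right one_lt_two).1 (by norm_num; omega)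
      have h16' : 2 ^ 4 ≤ 2 ^ j := by rw [← hj]; omega
      have := (Nat.pow_le_pow_iff_right one_lt_two).1 h16'
      rw [hj, show j = 4 by omega]; norm_num
    obtain ⟨c, hcH, hcN⟩ : ∃ c ∈ H, c ∉ N := by
      by_contra! h
      rw [inf_eq_left.2 h] at h16
      omega
    have hfix : ∀ v ∈ H ⊓ N, c * v * c⁻¹ = v := fun v hv => by
      rw [hHc c hcH v hv.1, mul_inv_cancel_right]
    obtain ⟨hs1, hs2⟩ := hswap c hcN
    have hL16 : E.Other (H ⊓ N) := ⟨inf_le_right, h16, fun v hv => hH2 v hv.1⟩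
    apply hne
    have hfixsub : ∀ Q : Subgroup X, Q = H ⊓ N → cj c Q = Q := by
      rintro Q rfl
      refine eq_of_le_of_card_ge ?_ (by rw [card_cj])
      rintro _ ⟨v, hv, rfl⟩
      show c * v * c⁻¹ ∈ H ⊓ N
      rw [hfix v hv]; exact hv
    by_cases hLT : H ⊓ N = E.T
    · rw [← hs1, hfixsub _ hLT.symm]
    · have := hA.eq hne hL16 hLT
      rw [← hs2, hfixsub _ this.symm]

end Elem

end CfsgLib.HaradaFour
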