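import Mathlib
import Cfsg.Agent.Lib.HaradaFour.Overgroup

/-!
Harada's lemma: `T = D × B` with `D` having a cyclic subgroup of index 2 and centre small,
`B` a four-group with `C(b) ≤ T` for all `b ∈ B#`: sectional 2-rank at most 4.
-/

set_option autoImplicit false
set_option linter.style.haveILetI false

namespace CfsgLib.HaradaFour

open Subgroup

/-- A subgroup `L` of `Z × B`, `Z` cyclic, with squares in `M ≤ L`: index at most `2 |B|`. -/
theorem card_prod_le {Z B : Type*} [Group Z] [Finite Z] [IsCyclic Z] [Group B] [Finite B]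
    (L M : Subgroup (Z × B)) (hsq : ∀ l ∈ L, l ^ 2 ∈ M) :
    Nat.card L ≤ 2 * Nat.card B * Nat.card M := by
  have h1 := CfsgLib.MacWilliams.card_eq_map_mul_inf_ker (MonoidHom.fst Z B) L
  have hker : Nat.card ↥(L ⊓ (MonoidHom.fst Z B).ker) ≤ Nat.card B := by
    refine Nat.card_le_card_of_injective (fun l => (l : Z × B).2) ?_
    intro a b hab
    apply Subtype.ext
    exact Prod.ext ((a.2.2 : (a : Z × B).1 = 1).trans (b.2.2 : (b : Z × B).1 = 1).symm) hab
  obtain ⟨u, hu⟩ := IsCyclic.exists_generator (α := L.map (MonoidHom.fst Z B))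
  have hu' : L.map (MonoidHom.fst Z B) = zpowers (u : Z) := by
    refine le_antisymm (fun v hv => ?_) (zpowers_le.2 u.2)
    obtain ⟨k, hk⟩ := mem_zpowers_iff.1 (hu ⟨v, hv⟩)
    exact ⟨k, by simpa using congrArg Subtype.val hk⟩
  obtain ⟨l, hl, hlu⟩ := u.2
  have hM : zpowers ((u : Z) ^ 2) ≤ M.map (MonoidHom.fst Z B) := by
    rw [zpowers_le]
    exact ⟨l ^ 2, hsq l hl, by rw [map_pow, hlu]⟩
  have h2 : Nat.card (L.map (MonoidHom.fst Z B)) ≤ 2 * Nat.card M := by
    have h3 := card_le_of_le hM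
    have h4 := CfsgLib.MacWilliams.card_eq_map_mul_inf_ker (MonoidHom.fst Z B) M
    rw [hu', Nat.card_zpowers]
    rw [Nat.card_zpowers, orderOf_pow] at h3
    have h5 : 0 < Nat.card ↥(M ⊓ (MonoidHom.fst Z B).ker) := Nat.card_pos
    have h6 : Nat.gcd (orderOf (u : Z)) 2 ∣ 2 := Nat.gcd_dvd_right _ _
    have h7 : Nat.gcd (orderOf (u : Z)) 2 ∣ orderOf (u : Z) := Nat.gcd_dvd_left _ _
    have h8 := Nat.le_of_dvd two_pos h6
    have h9 := Nat.div_mul_cancel h7
    have h10 : orderOf (u : Z) / Nat.gcd (orderOf (u : Z)) 2 ≤ Nat.card M := by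
      rw [h4]; exact le_trans h3 (Nat.le_mul_of_pos_right _ h5)
    calc orderOf (u : Z) = orderOf (u : Z) / Nat.gcd (orderOf (u : Z)) 2 * _ := h9.symm
      _ ≤ Nat.card M * 2 := Nat.mul_le_mul h10 h8
      _ = 2 * Nat.card M := mul_comm _ _
  rw [h1]
  calc _ ≤ 2 * Nat.card M * Nat.card B := Nat.mul_le_mul h2 hker
    _ = _ := by ring

variable {X : Type*} [Group X] [Finite X]

/-- The bound inside `X` with an abelian subgroup `⟨x⟩ × B` of index at most 2. -/
theorem bound_split (x : X) (B : Subgroup X) (hxB : ∀ b ∈ B, x * b = b * x)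
    (hB4 : Nat.card B = 4) (hdisj : zpowers x ⊓ B = ⊥) (hcard : Nat.card X ≤ 8 * orderOf x)
    (H K : Subgroup X) (hsq : ∀ h ∈ H, h ^ 2 ∈ K) : Nat.card H ≤ 2 ^ 4 * Nat.card K := by
  have hcomm : ∀ (m : zpowers x) (n : B), Commute (m : X) n := by
    rintro ⟨m, k, rfl⟩ ⟨n, hn⟩
    exact (Commute.zpow_left (hxB n hn) k)
  let ψ : zpowers x × B →* X := (zpowers x).subtype.noncommCoprod B.subtype hcomm
  have hψ : Function.Injective ψ := by
    intro p q h
    exact Subgroup.mul_injective_of_disjoint (disjoint_iff.2 hdisj) h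
  have hidx : ψ.range.index ≤ 2 := by
    have h := card_mul_index ψ.range
    rw [Nat.card_congr (MonoidHom.ofInjective hψ).toEquiv.symm, Nat.card_prod, Nat.card_zpowers,
      hB4] at h
    have hpos : 0 < orderOf x := orderOf_pos x
    by_contra h2
    have := Nat.mul_le_mul_left (orderOf x * 4) (by omega : 3 ≤ ψ.range.index)
    omega
  have h1 : Nat.card H ≤ 2 * Nat.card ↥(H ⊓ ψ.range) := by
    have h := card_mul_index (ψ.range.subgroupOf H)
    rw [← inf_subgroupOf_left, Nat.card_congr (subgroupOfEquivOfLe inf_le_left).toEquiv,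
      inf_subgroupOf_left] at h
    have h2 : (ψ.range.subgroupOf H).index ≤ 2 := by
      have : ψ.range.relIndex H ≤ ψ.range.relIndex ⊤ :=
        relIndex_le_of_le_right le_top FiniteIndex.index_ne_zero
      rw [relIndex_top_right] at this
      exact le_trans this hidx
    calc Nat.card H = Nat.card ↥(H ⊓ ψ.range) * (ψ.range.subgroupOf H).index := h.symm
      _ ≤ Nat.card ↥(H ⊓ ψ.range) * 2 := Nat.mul_le_mul_left _ h2
      _ = _ := mul_comm _ _
  have hmap : ∀ L : Subgroup X, Nat.card (L.comap ψ) = Nat.card ↥(L ⊓ ψ.range) := fun L => by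
    rw [← card_map_of_injective (K := L.comap ψ) hψ, map_comap_eq, inf_comm]
  have h3 := card_prod_le (H.comap ψ) (K.comap ψ) (fun l hl => by
    show ψ (l ^ 2) ∈ K
    rw [map_pow]
    exact hsq _ hl)
  rw [hmap, hmap, hB4] at h3
  have h4 : Nat.card ↥(K ⊓ ψ.range) ≤ Nat.card K := card_le_of_le inf_le_left
  calc Nat.card H ≤ 2 * Nat.card ↥(H ⊓ ψ.range) := h1
    _ ≤ 2 * (2 * 4 * Nat.card K) := Nat.mul_le_mul_left _ (le_trans h3 (Nat.mul_le_mul_left _ h4))
    _ = _ := by ring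

/-- `T` with small centre cannot be proper. -/
theorem top_of_small_center (hX : IsPGroup 2 X) (T B : Subgroup X) (hBT : B ≤ T)
    (hB4 : Nat.card B = 4) (hB2 : ∀ b ∈ B, b ^ 2 = 1)
    (hTB : ∀ t ∈ T, ∀ b ∈ B, t * b = b * t)
    (hCb : ∀ b ∈ B, b ≠ 1 → ∀ g : X, g * b = b * g → g ∈ T)
    (z : X) (hz : z ^ 2 = 1)
    (hW : ∀ t ∈ T, (∀ s ∈ T, s * t = t * s) → ∃ e : X, (e = 1 ∨ e = z) ∧ ∃ b ∈ B, t = e * b ∧
      e * b = b * e) : T = ⊤ := by
  by_contra hT
  have hlt : T < normalizer (T : Set X) :=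
    lt_of_le_of_ne T.le_normalizer fun h => hT (eq_top_of_normalizer_eq hX h.symm)
  obtain ⟨g, hgN, hgT, hg2⟩ := exists_sq_mem hX hlt
  set W := T ⊓ centralizer (T : Set X) with hWdef
  have hWc : ∀ t ∈ W, ∀ s ∈ T, s * t = t * s := fun t ht s hs => mem_centralizer_iff.1 ht.2 s hs
  have hBW : B ≤ W := fun b hb =>
    ⟨hBT hb, mem_centralizer_iff.2 fun s hs => hTB s hs b hb⟩
  have hWe : ∀ t ∈ W, t ^ 2 = 1 := by
    intro t ht
    obtain ⟨e, he, b, hb, rfl, heb⟩ := hW t ht.1 (hWc t ht)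
    rw [Commute.mul_pow heb, hB2 b hb, mul_one]
    rcases he with rfl | rfl
    · exact one_pow 2
    · exact hz
  have hW8 : Nat.card W ≤ 8 := by
    classical
    have hch : ∀ w : W, ∃ p : Bool × B, (w : X) = (if p.1 then z else 1) * p.2 := by
      intro w
      obtain ⟨e, he, b, hb, hwb, -⟩ := hW w w.2.1 (hWc w w.2)
      rcases he with rfl | rfl
      · exact ⟨(false, ⟨b, hb⟩), by simpa using hwb⟩
      · exact ⟨(true, ⟨b, hb⟩), by simpa using hwb⟩
    choose f hf using hch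
    have := Nat.card_le_card_of_injective f fun a b hab => Subtype.ext (by rw [hf a, hf b, hab])
    simpa [Nat.card_prod, hB4] using this
  have hnorm : ∀ t ∈ W, g * t * g⁻¹ ∈ W := by
    intro t ht
    refine ⟨conj_mem_of_mem_normalizer hgN ht.1, mem_centralizer_iff.2 fun s hs => ?_⟩
    have hs' : g⁻¹ * s * g ∈ T := by
      simpa using conj_mem_of_mem_normalizer (inv_mem hgN) hs
    calc s * (g * t * g⁻¹) = g * ((g⁻¹ * s * g) * t) * g⁻¹ := by group
      _ = g * (t * (g⁻¹ * s * g)) * g⁻¹ := by rw [hWc t ht _ hs']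
      _ = _ := by group
  have hsq := card_le_sq g W (fun a ha b hb => hWc b hb a ha.1) hWe hnorm
    (fun a ha => hWc a ha _ hg2)
  have hint : (W ⊓ centralizer ({g} : Set X)) ⊓ B = ⊥ := by
    rw [eq_bot_iff]
    rintro b ⟨⟨-, hbc⟩, hbB⟩
    rw [mem_bot]
    by_contra hb
    exact hgT (hCb b hbB hb g (mem_centralizer_singleton_iff.1 hbc).symm)
  have hprod := card_mul_card_le (inf_le_left : W ⊓ centralizer ({g} : Set X) ≤ W) hBW hint
  rw [hB4] at hprod
  generalize Nat.card ↥(W ⊓ centralizer ({g} : Set X)) = c at hsq hprod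
  have hc2 : c ≤ 2 := by omega
  have h4 : c ^ 2 ≤ 2 ^ 2 := Nat.pow_le_pow_left hc2 2
  have hBW4 := card_le_of_le hBW
  rw [hB4] at hBW4
  have hc1 : c ≤ 1 := by omega
  have : c ^ 2 ≤ 1 ^ 2 := Nat.pow_le_pow_left hc1 2
  omega

/-- Harada's lemma inside a 2-group. -/
theorem sectional_le_four (hX : IsPGroup 2 X) (T B : Subgroup X) (hBT : B ≤ T)
    (hB4 : Nat.card B = 4) (hB2 : ∀ b ∈ B, b ^ 2 = 1)
    (hTB : ∀ t ∈ T, ∀ b ∈ B, t * b = b * t)
    (hCb : ∀ b ∈ B, b ≠ 1 → ∀ g : X, g * b = b * g → g ∈ T)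
    (x : X) (hxT : x ∈ T) (hdisj : zpowers x ⊓ B = ⊥) (hcard : Nat.card T ≤ 8 * orderOf x)
    (halt : (Nat.card T = 16 ∧ ∀ t ∈ T, t ^ 2 = 1) ∨
      ∃ z : X, z ^ 2 = 1 ∧ ∀ t ∈ T, (∀ s ∈ T, s * t = t * s) →
        ∃ e : X, (e = 1 ∨ e = z) ∧ ∃ b ∈ B, t = e * b ∧ e * b = b * e) :
    Cfsg.SectionalPRankLE 2 4 X := by
  refine CfsgLib.MacWilliams.sectionalPRankLE_two_of_sq_index 4 fun H K _ hsq => ?_
  by_cases hT : T = ⊤
  · refine bound_split x B (hTB x hxT) hB4 hdisj ?_ H K hsq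
    rw [hT, card_top] at hcard
    exact hcard
  rcases halt with ⟨h16, he⟩ | ⟨z, hz, hW⟩
  · exact Elem.bound
      { hX := hX, T := T, B := B, hBT := hBT, hB4 := hB4, hT16 := h16
        hTc := fun a ha b hb => congrArg Subtype.val (comm_of_sq (G := T)
          (fun g => Subtype.ext (he g g.2)) ⟨a, ha⟩ ⟨b, hb⟩)
        hTe := he, hCb := hCb } hT H K hsq
  · exact absurd (top_of_small_center hX T B hBT hB4 hB2 hTB hCb z hz hW) hT

/-- The sectional 2-rank is determined by a Sylow 2-subgroup. -/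
theorem sectional_of_sylow {G : Type*} [Group G] [Finite G] (k : ℕ) (S : Sylow 2 G)
    (h : Cfsg.SectionalPRankLE 2 k S) : Cfsg.SectionalPRankLE 2 k G := by
  haveI : Fact (Nat.Prime 2) := ⟨Nat.prime_two⟩
  refine CfsgLib.MacWilliams.sectionalPRankLE_two_of_sq_index k fun H N hNH hsq => ?_
  obtain ⟨P⟩ := (inferInstance : Nonempty (Sylow 2 H))
  haveI : (N.subgroupOf H).Normal := ⟨fun n hn l => by
    have hn' : (n : G) ∈ N := hn
    show (l : G) * n * (l : G)⁻¹ ∈ N
    open scoped commutatorElement in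
    have hc := CfsgLib.MacWilliams.commutator_mem_of_sq_mem hsq l.2 n.2
    rw [commutatorElement_def] at hc
    simpa using N.mul_mem hc hn'⟩
  have hq : IsPGroup 2 (H ⧸ N.subgroupOf H) := fun q => by
    obtain ⟨l, rfl⟩ := QuotientGroup.mk'_surjective _ q
    refine ⟨1, ?_⟩
    rw [pow_one, ← map_pow]
    exact (QuotientGroup.eq_one_iff _).2 (hsq _ l.2)
  obtain ⟨m, hm⟩ := IsPGroup.iff_card.1 hq
  -- the index of `N` in `H` is a 2-power, so it is visible in a Sylow subgroup
  set P' : Subgroup G := (P : Subgroup H).map H.subtype with hP'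
  have hP'H : P' ≤ H := map_subtype_le _
  have hP2 : IsPGroup 2 P' := P.isPGroup'.map _
  obtain ⟨R, hR⟩ := hP2.exists_le_sylow
  obtain ⟨g, hg⟩ := MulAction.exists_smul_eq G R S
  have hPS : ∀ v ∈ P', g * v * g⁻¹ ∈ (S : Subgroup G) := fun v hv => by
    rw [← hg, Sylow.coe_subgroup_smul]
    exact Subgroup.smul_mem_pointwise_smul v (MulAut.conj g) _ (hR hv)
  let f : P' →* S :=
    { toFun := fun v => ⟨g * v * g⁻¹, hPS v v.2⟩
      map_one' := Subtype.ext (by simp)
      map_mul' := fun u v => Subtype.ext (by simp [mul_assoc]) }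
  have hf : Function.Injective f := fun u v huv => Subtype.ext
    (mul_left_cancel (mul_right_cancel (congrArg Subtype.val huv :)))
  have hle : Nat.card P' ≤ 2 ^ k * Nat.card ↥(N.subgroupOf P') := by
    have h2 : ∀ v ∈ ((⊤ : Subgroup P').map f), v ^ 2 ∈ ((N.subgroupOf P').map f) := by
      rintro _ ⟨v, -, rfl⟩
      exact ⟨v ^ 2, hsq _ (hP'H v.2), map_pow _ _ _⟩
    have h3 : (⊤ : Subgroup S) = ⊤ := rfl
    -- apply the rank hypothesis to the section
    haveI : (((N.subgroupOf P').map f).subgroupOf ((⊤ : Subgroup P').map f)).Normal :=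
      ⟨fun n hn l => by
        open scoped commutatorElement in
        have hc := CfsgLib.MacWilliams.commutator_mem_of_sq_mem h2 l.2 n.2
        rw [commutatorElement_def] at hc
        show (l : S) * n * (l : S)⁻¹ ∈ (N.subgroupOf P').map f
        simpa using Subgroup.mul_mem _ hc (hn : (n : S) ∈ (N.subgroupOf P').map f)⟩
    have hqsq : ∀ q : ↥((⊤ : Subgroup P').map f) ⧸
        ((N.subgroupOf P').map f).subgroupOf ((⊤ : Subgroup P').map f), q ^ 2 = 1 := by
      intro q
      obtain ⟨l, rfl⟩ := QuotientGroup.mk'_surjective _ q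
      rw [← map_pow]
      exact (QuotientGroup.eq_one_iff _).2 (h2 _ l.2)
    have h4 := h _ (((N.subgroupOf P').map f).subgroupOf ((⊤ : Subgroup P').map f)) ⊤
      ⟨⟨fun a b => Subtype.ext (comm_of_sq hqsq _ _)⟩⟩ (fun a _ => hqsq a)
    rw [card_top, ← index_eq_card] at h4
    have h5 := card_mul_index (((N.subgroupOf P').map f).subgroupOf ((⊤ : Subgroup P').map f))
    rw [Nat.card_congr (subgroupOfEquivOfLe (map_mono le_top)).toEquiv,
      card_map_of_injective hf, card_map_of_injective hf, card_top] at h5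
    calc Nat.card P' = Nat.card ↥(N.subgroupOf P') *
          (((N.subgroupOf P').map f).subgroupOf ((⊤ : Subgroup P').map f)).index := h5.symm
      _ ≤ Nat.card ↥(N.subgroupOf P') * 2 ^ k := Nat.mul_le_mul_left _ h4
      _ = _ := mul_comm _ _
  -- compare 2-parts
  have hHN : Nat.card H = Nat.card N * 2 ^ m := by
    have h1 := card_mul_index (N.subgroupOf H)
    rw [Nat.card_congr (subgroupOfEquivOfLe hNH).toEquiv, index_eq_card, hm] at h1
    exact h1.symm
  have hP : Nat.card P' = 2 ^ (Nat.card H).factorization 2 := by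
    rw [hP', card_map_of_injective H.subtype_injective, P.card_eq_multiplicity]
  obtain ⟨j, hj⟩ := IsPGroup.iff_card.1 (hP2.to_subgroup (N.subgroupOf P'))
  have hjN : j ≤ (Nat.card N).factorization 2 := by
    apply (Nat.Prime.pow_dvd_iff_le_factorization Nat.prime_two Nat.card_pos.ne').1
    rw [← hj, ← card_map_of_injective P'.subtype_injective]
    exact card_dvd_of_le (by rintro _ ⟨v, hv, rfl⟩; exact hv)
  rw [hj, hP, hHN, Nat.factorization_mul Nat.card_pos.ne' (pow_ne_zero _ two_ne_zero),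
    Finsupp.add_apply, Nat.Prime.factorization_pow Nat.prime_two, Finsupp.single_eq_same,
    ← pow_add] at hle
  rw [hHN, mul_comm (2 ^ k) (Nat.card N)]
  refine Nat.mul_le_mul_left _ (Nat.pow_le_pow_right two_pos ?_)
  have := (Nat.pow_le_pow_iff_right one_lt_two).1 hle
  omega

end CfsgLib.HaradaFour
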